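import Groth.Agent.L15.SmoothUnibranch.Stalk
import Groth.Agent.L07.EquidimQF
import Groth.Agent.L05.Henselization.UnibranchScheme
import Mathlib.AlgebraicGeometry.Fiber
import Mathlib.AlgebraicGeometry.Morphisms.FlatDescent
import Mathlib.AlgebraicGeometry.Morphisms.Smooth

/-!
# Smooth schemes over irreducible geometrically unibranch schemes are locally irreducible
-/

set_option autoImplicit false
set_option linter.style.haveILetI false
set_option backward.isDefEq.respectTransparency.types false

universe u

open CategoryTheory CategoryTheory.Limits AlgebraicGeometry TopologicalSpace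

namespace Groth.L15.SmoothUnibranch

open Groth.L07.EquidimQF (closure_singleton_mem_irreducibleComponents_iff)

/-- On a scheme with unibranch local rings each point lies on one component. -/
theorem eq_component {W : Scheme.{u}} (hW : ∀ w : W, CAlg2.IsUnibranch (W.presheaf.stalk w)) {w : W} {Z Z' : Set W}
    (hZ : Z ∈ irreducibleComponents W) (hZ' : Z' ∈ irreducibleComponents W) (h : w ∈ Z) (h' : w ∈ Z') :
    Z = Z' := by
  obtain ⟨η, hη⟩ := QuasiSober.sober hZ.1 (isClosed_of_mem_irreducibleComponents Z hZ)
  obtain ⟨η', hη'⟩ := QuasiSober.sober hZ'.1 (isClosed_of_mem_irreducibleComponents Z' hZ')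
  have hn : (nilradical (W.presheaf.stalk w)).IsPrime := by
    haveI : IsDomain (CAlg2.red (W.presheaf.stalk w)) := (hW w).1
    exact (Ideal.Quotient.isDomain_iff_prime _).mp this
  rw [← hη.def, ← hη'.def, Groth.L05.Henselization.Branches.eq_of_maximal_of_specializes hn
    (hη.specializes h) (hη'.specializes h')
    ((closure_singleton_mem_irreducibleComponents_iff η).1 (hη.def.symm ▸ hZ))
    ((closure_singleton_mem_irreducibleComponents_iff η').1 (hη'.def.symm ▸ hZ'))]

/-- With finitely many components, they are open. -/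
theorem isOpen_component {W : Scheme.{u}} (hW : ∀ w : W, CAlg2.IsUnibranch (W.presheaf.stalk w))
    (hfin : (irreducibleComponents (W : Type u)).Finite) {Z : Set W} (hZ : Z ∈ irreducibleComponents W) :
    IsOpen Z := by
  have hc : Zᶜ = ⋃ Z' ∈ irreducibleComponents (W : Type u) \ {Z}, Z' := by
    ext s
    simp only [Set.mem_compl_iff, Set.mem_iUnion, Set.mem_sdiff, Set.mem_singleton_iff, exists_prop]
    refine ⟨fun hs => ?_, ?_⟩
    · exact ⟨irreducibleComponent s, ⟨irreducibleComponent_mem_irreducibleComponents s,
        fun h => hs (h ▸ mem_irreducibleComponent)⟩, mem_irreducibleComponent⟩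
    · rintro ⟨Z', ⟨hZ', hne⟩, hs⟩ hsZ
      exact hne (eq_component hW hZ' hZ hs hsZ)
  rw [← isClosed_compl_iff, hc]
  exact hfin.sdiff.isClosed_biUnion fun Z' h => isClosed_of_mem_irreducibleComponents Z' h.1

variable {P S : Scheme.{u}} [IrreducibleSpace S] (f : P ⟶ S) [Smooth f]

/-- Maximal points lie over the generic point. -/
theorem apply_eq_of_maximal (ξ : P) (hξ : ∀ y, y ⤳ ξ → y = ξ) : f ξ = genericPoint S := by
  obtain ⟨y, hy, hfy⟩ := Flat.generalizingMap f ((genericPoint_spec S).specializes (Set.mem_univ (f ξ)))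
  rw [← hξ y hy]
  exact hfy

/-- A quasi-compact smooth scheme over the base has finitely many components. -/
theorem finite_irreducibleComponents [QuasiCompact f] : (irreducibleComponents (P : Type u)).Finite := by
  let η := genericPoint S
  haveI : QuasiCompact (f.fiberToSpecResidueField η) := MorphismProperty.pullback_snd _ _ inferInstance
  haveI : LocallyOfFiniteType (f.fiberToSpecResidueField η) := MorphismProperty.pullback_snd _ _ inferInstance
  haveI : IsLocallyNoetherian (f.fiber η) :=
    LocallyOfFiniteType.isLocallyNoetherian (f.fiberToSpecResidueField η)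
  haveI : CompactSpace (f.fiber η) :=
    QuasiCompact.compactSpace_of_compactSpace (f.fiberToSpecResidueField η)
  haveI : IsNoetherian (f.fiber η) := {}
  let F := f.fiber η
  refine ((NoetherianSpace.finite_irreducibleComponents (α := F)).image
    (fun Z => closure (f.fiberι η '' Z))).subset fun Z hZ => ?_
  obtain ⟨ξ, hξ⟩ := QuasiSober.sober hZ.1 (isClosed_of_mem_irreducibleComponents Z hZ)
  have hmax : ∀ y, y ⤳ ξ → y = ξ :=
    (closure_singleton_mem_irreducibleComponents_iff ξ).1 (hξ.def.symm ▸ hZ)
  obtain ⟨ξ', hξ'⟩ : ξ ∈ Set.range (f.fiberι η) := by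
    rw [f.range_fiberι]; exact apply_eq_of_maximal f ξ hmax
  refine ⟨closure {ξ'}, (closure_singleton_mem_irreducibleComponents_iff ξ').2 fun q hq => ?_, ?_⟩
  · refine (f.fiberι η).isEmbedding.injective (hmax _ ?_ |>.trans hξ'.symm)
    rw [← hξ']
    exact hq.map (f.fiberι η).continuous
  · show closure (f.fiberι η '' closure {ξ'}) = Z
    rw [closure_image_closure (f.fiberι η).continuous, Set.image_singleton, hξ']
    exact hξ.def

variable {f} (hS : ∀ s : S, CAlg2.IsGeomUnibranch (S.presheaf.stalk s))
include hS

/-- Every point has an irreducible open neighbourhood. -/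
theorem exists_irreducible_nhd (f : P ⟶ S) [Smooth f] (x : P) :
    ∃ N : P.Opens, x ∈ N ∧ IsIrreducible (N : Set P) := by
  obtain ⟨V, hV, hxV, -⟩ := exists_isAffineOpen_mem_and_subset (X := S) (x := f x) (U := ⊤) trivial
  obtain ⟨W, hW, hxW, e⟩ := exists_isAffineOpen_mem_and_subset (X := P) (x := x) (U := f ⁻¹ᵁ V) hxV
  replace e : W ≤ f ⁻¹ᵁ V := e
  haveI : IsAffine V.toScheme := hV
  haveI : IsAffine W.toScheme := hW
  haveI : Nonempty V.toScheme := ⟨⟨f x, hxV⟩⟩
  haveI : IrreducibleSpace V.toScheme := by
    haveI : PreirreducibleSpace V.toScheme := by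
      refine ⟨?_⟩
      have := (IrreducibleSpace.isIrreducible_univ S).2.preimage V.ι.isOpenEmbedding
      rwa [Set.preimage_univ] at this
    exact ⟨inferInstance⟩
  let g : W.toScheme ⟶ V.toScheme := f.resLE V W e
  haveI : Smooth g := by
    haveI : Smooth (f ∣_ V) := IsZariskiLocalAtTarget.restrict ‹Smooth f› V
    show Smooth (P.homOfLE e ≫ f ∣_ V)
    infer_instance
  have hGW : ∀ w : W.toScheme, CAlg2.IsUnibranch (W.toScheme.presheaf.stalk w) := fun w =>
    (isGeomUnibranch_stalk (W.ι ≫ f) w (hS _)).1
  let x' : W.toScheme := ⟨x, hxW⟩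
  have ho := isOpen_component hGW (finite_irreducibleComponents g)
    (irreducibleComponent_mem_irreducibleComponents x')
  refine ⟨⟨W.ι '' irreducibleComponent x', W.ι.isOpenEmbedding.isOpenMap _ ho⟩,
    ⟨x', mem_irreducibleComponent, rfl⟩, ?_⟩
  exact isIrreducible_irreducibleComponent.image _ W.ι.continuous.continuousOn

/-- The irreducible components are open. -/
theorem isOpen_irreducibleComponent (f : P ⟶ S) [Smooth f] {Z : Set P} (hZ : Z ∈ irreducibleComponents P) :
    IsOpen Z := by
  have hcl := isClosed_of_mem_irreducibleComponents Z hZ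
  obtain ⟨η, hη⟩ := QuasiSober.sober hZ.1 hcl
  refine isOpen_iff_forall_mem_open.2 fun y hy => ?_
  obtain ⟨N, hyN, hN⟩ := exists_irreducible_nhd hS f y
  refine ⟨N, fun p hp => ?_, N.2, hyN⟩
  have hηN : η ∈ (N : Set P) := (hη.specializes hy).mem_open N.2 hyN
  have hζ := hN.isGenericPoint_genericPoint_closure
  have h1 : hN.genericPoint = η :=
    (closure_singleton_mem_irreducibleComponents_iff η).1 (hη.def.symm ▸ hZ) _
      (hζ.specializes (subset_closure hηN))
  exact (h1 ▸ hζ.specializes (subset_closure hp)).mem_closed hcl hη.mem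

omit [IrreducibleSpace S] in
/-- Each point lies on exactly one irreducible component. -/
theorem eq_irreducibleComponent (f : P ⟶ S) [Smooth f] {Z : Set P} (hZ : Z ∈ irreducibleComponents P)
    {x : P} (hx : x ∈ Z) : Z = irreducibleComponent x :=
  eq_component (fun y => (isGeomUnibranch_stalk f y (hS _)).1) hZ
    (irreducibleComponent_mem_irreducibleComponents x) hx mem_irreducibleComponent

end Groth.L15.SmoothUnibranch
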