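import Groth.Agent.L05.Henselization.SmoothUnibranch
import Groth.Agent.L07.Chevalley
import Groth.Agent.L06.GeomUnibranchCons
import Groth.Agent.L06.Unibranch
import Mathlib.AlgebraicGeometry.Morphisms.Smooth
import Mathlib.RingTheory.TensorProduct.Quotient

/-!
# Smooth schemes over geometrically unibranch schemes are geometrically unibranch
-/

set_option autoImplicit false
set_option linter.style.haveILetI false
set_option maxSynthPendingDepth 3
set_option backward.isDefEq.respectTransparency.types false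

universe u

open CategoryTheory CategoryTheory.Limits AlgebraicGeometry TensorProduct

namespace Groth.L15.SmoothUnibranch

/-- Transport along ring isomorphisms. -/
theorem isGeomUnibranch_of_equiv {A B : Type u} [CommRing A] [CommRing B] [IsLocalRing A] [IsLocalRing B]
    (e : A ≃+* B) (h : CAlg2.IsGeomUnibranch A) : CAlg2.IsGeomUnibranch B :=
  Groth.L07.Chevalley.isGeomUnibranch_of_surjective e.toRingHom e.surjective (fun a ha => by
    have : a = 0 := e.injective ((RingHom.mem_ker.mp ha).trans (map_zero e).symm)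
    rw [this]; exact zero_mem _) h

/-- Geometric unibranchness lifts along surjections with nil kernel. -/
theorem isGeomUnibranch_of_map {A B : Type u} [CommRing A] [CommRing B] [IsLocalRing A] [IsLocalRing B]
    (π : A →+* B) (hπ : Function.Surjective π) (hker : RingHom.ker π ≤ nilradical A)
    (h : CAlg2.IsGeomUnibranch B) : CAlg2.IsGeomUnibranch A := by
  have hle : nilradical A ≤ (nilradical B).comap π := fun a ha =>
    mem_nilradical.mpr ((mem_nilradical.mp ha).map π)
  have hbij : Function.Bijective (Ideal.quotientMap (nilradical B) π hle) :=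
    ⟨Ideal.quotientMap_injective' (fun a ha =>
      mem_nilradical.mpr (Groth.L06.Unibranch.isNilpotent_of_map π hker (mem_nilradical.mp ha))),
      Ideal.quotientMap_surjective hπ⟩
  exact Groth.L06.GeomUnibranchCons.isGeomUnibranch_of_redEquiv (RingEquiv.ofBijective _ hbij).symm h

/-- A smooth algebra over a ring with geometrically unibranch local domain. -/
theorem isDomain_geomUnibranch_smooth {R C : Type u} [CommRing R] [CommRing C] [Algebra R C]
    [Algebra.Smooth R C] (p : Ideal R) [p.IsPrime] [IsDomain (Localization.AtPrime p)]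
    (hu : CAlg2.IsGeomUnibranch (Localization.AtPrime p))
    (z : Ideal C) [z.IsPrime] (hp : z.comap (algebraMap R C) = p) :
    CAlg2.IsGeomUnibranch (Localization.AtPrime z) := by
  let Rp := Localization.AtPrime p
  let R' := Rp ⊗[R] C
  letI : Algebra C R' := Algebra.TensorProduct.rightAlgebra
  let S := Algebra.algebraMapSubmonoid C p.primeCompl
  haveI hloc : IsLocalization S R' := IsLocalization.tensorRight (S := C) Rp p.primeCompl
  have hS : Disjoint (S : Set C) (z : Set C) := by
    rw [Set.disjoint_left]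
    rintro _ ⟨r, hr, rfl⟩ hmem
    exact hr (hp.le hmem)
  let P : Ideal R' := z.map (algebraMap C R')
  haveI : P.IsPrime := IsLocalization.isPrime_of_isPrime_disjoint S R' z inferInstance hS
  have hPz : P.comap (algebraMap C R') = z :=
    IsLocalization.under_map_of_isPrime_disjoint S R' inferInstance hS
  have hm : (IsLocalRing.maximalIdeal Rp).map (algebraMap Rp R') ≤ P := by
    rw [← Localization.AtPrime.map_eq_maximalIdeal (I := p), Ideal.map_map, Ideal.map_le_iff_le_comap]
    intro r hr
    have h1 : algebraMap C R' (algebraMap R C r) = algebraMap Rp R' (algebraMap R Rp r) := by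
      show (1 : Rp) ⊗ₜ[R] algebraMap R C r = algebraMap R Rp r ⊗ₜ[R] (1 : C)
      exact (Algebra.TensorProduct.tmul_one_eq_one_tmul r).symm
    show algebraMap Rp R' (algebraMap R Rp r) ∈ P
    rw [← h1]
    exact Ideal.mem_map_of_mem _ (hp.ge hr)
  have hA := (Groth.L05.Henselization.Branches.geomUnibranch_localization_of_smooth hu R' P hm).2
  have hloc1 : IsLocalization.AtPrime (Localization.AtPrime P) z := by
    have := IsLocalization.isLocalization_isLocalization_atPrime_isLocalization S (Localization.AtPrime P) P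
    refine (congrArg (fun M => IsLocalization M (Localization.AtPrime P))
      (?_ : (P.comap (algebraMap C R')).primeCompl = z.primeCompl)).mp this
    ext a
    exact not_congr (SetLike.ext_iff.mp hPz a)
  haveI := hloc1
  exact isGeomUnibranch_of_equiv
    (IsLocalization.algEquiv z.primeCompl (Localization.AtPrime z) (Localization.AtPrime P)).symm.toRingEquiv hA

/-- The quotient by the nilradical at a geometrically unibranch point. -/
theorem geomUnibranch_quot_nilradical {R : Type u} [CommRing R] (p : Ideal R) [p.IsPrime]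
    (h : CAlg2.IsGeomUnibranch (Localization.AtPrime p)) (p₁ : Ideal (R ⧸ nilradical R)) [p₁.IsPrime]
    (hp : p₁.comap (Ideal.Quotient.mk (nilradical R)) = p) :
    IsDomain (Localization.AtPrime p₁) ∧ CAlg2.IsGeomUnibranch (Localization.AtPrime p₁) := by
  let R₁ := R ⧸ nilradical R
  let π := Localization.localRingHom p p₁ (Ideal.Quotient.mk (nilradical R)) hp.symm
  have hπ : Function.Surjective π := fun z => by
    obtain ⟨a, s, rfl⟩ := IsLocalization.exists_mk'_eq p₁.primeCompl z
    obtain ⟨a, rfl⟩ := Ideal.Quotient.mk_surjective a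
    obtain ⟨t, ht⟩ := Ideal.Quotient.mk_surjective s.1
    have htp : t ∈ p.primeCompl := fun htp => s.2 (by rw [← ht]; exact hp.ge htp)
    refine ⟨IsLocalization.mk' _ a ⟨t, htp⟩, ?_⟩
    rw [Localization.localRingHom_mk']
    congr 1
    exact Subtype.ext ht
  have hker : RingHom.ker π ≤ nilradical (Localization.AtPrime p) := fun z hz => by
    obtain ⟨a, s, rfl⟩ := IsLocalization.exists_mk'_eq p.primeCompl z
    rw [RingHom.mem_ker, Localization.localRingHom_mk', IsLocalization.mk'_eq_zero_iff] at hz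
    obtain ⟨⟨t, ht⟩, hta⟩ := hz
    obtain ⟨t, rfl⟩ := Ideal.Quotient.mk_surjective t
    rw [← map_mul, Ideal.Quotient.eq_zero_iff_mem] at hta
    obtain ⟨n, hn⟩ := mem_nilradical.mp hta
    have htp : t ∈ p.primeCompl := fun htp => ht (hp.ge htp)
    refine mem_nilradical.mpr ⟨n, ?_⟩
    rw [← IsLocalization.mk'_pow, IsLocalization.mk'_eq_zero_iff]
    exact ⟨⟨t ^ n, pow_mem htp n⟩, by rw [← mul_pow]; exact hn⟩
  have hu : CAlg2.IsGeomUnibranch (Localization.AtPrime p₁) :=
    Groth.L07.Chevalley.isGeomUnibranch_of_surjective π hπ hker h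
  haveI : _root_.IsReduced R₁ := (Ideal.isRadical_iff_quotient_reduced _).mp (Ideal.radical_isRadical _)
  haveI : _root_.IsReduced (Localization.AtPrime p₁) :=
    isReduced_localizationPreserves p₁.primeCompl (Localization.AtPrime p₁) inferInstance
  haveI : IsDomain (CAlg2.red (Localization.AtPrime p₁)) := hu.1.1
  have hbot : nilradical (Localization.AtPrime p₁) = ⊥ := nilradical_eq_zero _
  exact ⟨((Ideal.quotEquivOfEq hbot).trans (RingEquiv.quotientBot _)).symm.toMulEquiv.isDomain
    (CAlg2.red (Localization.AtPrime p₁)), hu⟩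

/-- Localisations of smooth algebras over a ring with geometrically unibranch local ring. -/
theorem isGeomUnibranch_localization {R C : Type u} [CommRing R] [CommRing C] [Algebra R C]
    [Algebra.Smooth R C] (p : Ideal R) [p.IsPrime] (hu : CAlg2.IsGeomUnibranch (Localization.AtPrime p))
    (z : Ideal C) [z.IsPrime] (hp : z.comap (algebraMap R C) = p) :
    CAlg2.IsGeomUnibranch (Localization.AtPrime z) := by
  let N := nilradical R
  let J := N.map (algebraMap R C)
  have hJ : J ≤ nilradical C := Ideal.map_le_iff_le_comap.mpr fun a ha =>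
    mem_nilradical.mpr ((mem_nilradical.mp ha).map _)
  haveI : Algebra.Smooth (R ⧸ N) (C ⧸ J) :=
    Algebra.Smooth.of_equiv (Algebra.TensorProduct.quotIdealMapEquivQuotTensor C N).symm
  let z₁ : Ideal (C ⧸ J) := z.map (Ideal.Quotient.mk J)
  have hJz : J ≤ z := hJ.trans (nilradical_le_prime z)
  have hz₁ : z₁.comap (Ideal.Quotient.mk J) = z := by
    rw [Ideal.comap_map_of_surjective _ Ideal.Quotient.mk_surjective, ← RingHom.ker_eq_comap_bot,
      Ideal.mk_ker, sup_eq_left.mpr hJz]
  haveI : z₁.IsPrime := Ideal.map_isPrime_of_surjective Ideal.Quotient.mk_surjective (by rwa [Ideal.mk_ker])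
  let p₁ : Ideal (R ⧸ N) := z₁.comap (algebraMap (R ⧸ N) (C ⧸ J))
  have hp₁ : p₁.comap (Ideal.Quotient.mk N) = p := by
    rw [Ideal.comap_comap, ← hp, ← hz₁, Ideal.comap_comap]
    rfl
  obtain ⟨hd, hu₁⟩ := geomUnibranch_quot_nilradical p hu p₁ hp₁
  haveI := hd
  have h1 := isDomain_geomUnibranch_smooth p₁ hu₁ z₁ rfl
  let π := Localization.localRingHom z z₁ (Ideal.Quotient.mk J) hz₁.symm
  refine isGeomUnibranch_of_map π (fun x => ?_) (fun x hx => ?_) h1
  · obtain ⟨a, s, rfl⟩ := IsLocalization.exists_mk'_eq z₁.primeCompl x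
    obtain ⟨a, rfl⟩ := Ideal.Quotient.mk_surjective a
    obtain ⟨t, ht⟩ := Ideal.Quotient.mk_surjective s.1
    have htz : t ∈ z.primeCompl := fun htz => s.2 (by rw [← ht]; exact hz₁.ge htz)
    refine ⟨IsLocalization.mk' _ a ⟨t, htz⟩, ?_⟩
    rw [Localization.localRingHom_mk']
    congr 1
    exact Subtype.ext ht
  · obtain ⟨a, s, rfl⟩ := IsLocalization.exists_mk'_eq z.primeCompl x
    rw [RingHom.mem_ker, Localization.localRingHom_mk', IsLocalization.mk'_eq_zero_iff] at hx
    obtain ⟨⟨t, ht⟩, hta⟩ := hx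
    obtain ⟨t, rfl⟩ := Ideal.Quotient.mk_surjective t
    rw [← map_mul, Ideal.Quotient.eq_zero_iff_mem] at hta
    obtain ⟨n, hn⟩ := mem_nilradical.mp (hJ hta)
    have htz : t ∈ z.primeCompl := fun htz => ht (hz₁.ge htz)
    refine mem_nilradical.mpr ⟨n, ?_⟩
    rw [← IsLocalization.mk'_pow, IsLocalization.mk'_eq_zero_iff]
    exact ⟨⟨t ^ n, pow_mem htz n⟩, by rw [← mul_pow]; exact hn⟩

/-- Smooth schemes over a geometrically unibranch point. -/
theorem isGeomUnibranch_stalk {P S : Scheme.{u}} (f : P ⟶ S) [Smooth f] (x : P)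
    (h : CAlg2.IsGeomUnibranch (S.presheaf.stalk (f x))) : CAlg2.IsGeomUnibranch (P.presheaf.stalk x) := by
  obtain ⟨V, hV, hxV, -⟩ := exists_isAffineOpen_mem_and_subset (X := S) (x := f x) (U := ⊤) trivial
  obtain ⟨W, hW, hxW, e⟩ := exists_isAffineOpen_mem_and_subset (X := P) (x := x) (U := f ⁻¹ᵁ V) hxV
  replace e : W ≤ f ⁻¹ᵁ V := e
  letI := (f.appLE V W e).hom.toAlgebra
  haveI : Algebra.Smooth Γ(S, V) Γ(P, W) :=
    RingHom.smooth_algebraMap.mp (HasRingHomProperty.appLE @Smooth f ‹_› ⟨V, hV⟩ ⟨W, hW⟩ e)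
  letI := S.presheaf.algebra_section_stalk ⟨f x, hxV⟩
  haveI := hV.isLocalization_stalk ⟨f x, hxV⟩
  letI := P.presheaf.algebra_section_stalk ⟨x, hxW⟩
  haveI := hW.isLocalization_stalk ⟨x, hxW⟩
  have hp : (hW.primeIdealOf ⟨x, hxW⟩).asIdeal.comap (algebraMap Γ(S, V) Γ(P, W)) =
      (hV.primeIdealOf ⟨f x, hxV⟩).asIdeal :=
    congr($(IsAffineOpen.comap_primeIdealOf_appLE V hV W hW e hxW).1)
  have h1 := isGeomUnibranch_localization (hV.primeIdealOf ⟨f x, hxV⟩).asIdeal
    (isGeomUnibranch_of_equiv (IsLocalization.algEquiv (hV.primeIdealOf ⟨f x, hxV⟩).asIdeal.primeCompl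
      (S.presheaf.stalk (f x)) (Localization.AtPrime (hV.primeIdealOf ⟨f x, hxV⟩).asIdeal)).toRingEquiv h)
    (hW.primeIdealOf ⟨x, hxW⟩).asIdeal hp
  exact isGeomUnibranch_of_equiv (IsLocalization.algEquiv (hW.primeIdealOf ⟨x, hxW⟩).asIdeal.primeCompl
    (Localization.AtPrime (hW.primeIdealOf ⟨x, hxW⟩).asIdeal) (P.presheaf.stalk x)).toRingEquiv h1

end Groth.L15.SmoothUnibranch
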